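import Groth.Agent.WeilResLib.Coef
import Groth.Agent.FlatFunLimLib.FreeSheaf

/-!
# The content of an element of a smooth algebra with geometrically irreducible fibres
-/

set_option autoImplicit false
set_option backward.isDefEq.respectTransparency false
set_option linter.style.haveILetI false

universe u

open TensorProduct Groth.Agent.WeilRes

noncomputable section

namespace ContentLib

section fibres

variable {A B : Type u} [CommRing A] [CommRing B] [Algebra A B]

variable (A B) in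
/-- All geometric fibres have irreducible spectrum. -/
def IrredFibres : Prop :=
  ∀ (K : Type u) [Field K] [Algebra A K], (nilradical (K ⊗[A] B)).IsPrime

theorem irredFibres_baseChange (h : IrredFibres A B) (C : Type u) [CommRing C] [Algebra A C] :
    IrredFibres C (C ⊗[A] B) := fun K _ _ => by
  letI : Algebra A K := ((algebraMap C K).comp (algebraMap A C)).toAlgebra
  haveI : IsScalarTower A C K := IsScalarTower.of_algebraMap_eq fun _ => rfl
  let e : K ⊗[C] (C ⊗[A] B) ≃+* K ⊗[A] B :=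
    (Algebra.TensorProduct.cancelBaseChange A C C K B).toRingEquiv
  have hP := h K
  have heq : nilradical (K ⊗[C] (C ⊗[A] B)) = (nilradical (K ⊗[A] B)).comap e.toRingHom := by
    ext x
    simp only [mem_nilradical, Ideal.mem_comap]
    exact ⟨fun hx => hx.map e.toRingHom, fun hx => by simpa using hx.map e.symm.toRingHom⟩
  rw [heq]
  exact hP.comap _

theorem comap_surjective (h : IrredFibres A B) :
    Function.Surjective (PrimeSpectrum.comap (algebraMap A B)) := fun p => by
  let K := p.asIdeal.ResidueField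
  haveI := h K
  refine ⟨⟨(nilradical (K ⊗[A] B)).comap
    (Algebra.TensorProduct.includeRight (R := A) (A := K) (B := B)), Ideal.IsPrime.comap _⟩, PrimeSpectrum.ext ?_⟩
  ext x
  show Algebra.TensorProduct.includeRight (algebraMap A B x) ∈ nilradical (K ⊗[A] B) ↔ x ∈ p.asIdeal
  rw [AlgHom.commutes, IsScalarTower.algebraMap_apply A K (K ⊗[A] B),
    ← Ideal.algebraMap_residueField_eq_zero (I := p.asIdeal)]
  refine ⟨fun hx => by_contra fun hne => ?_, fun hx => by rw [hx, map_zero]; exact zero_mem _⟩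
  exact (h K).ne_top (Ideal.eq_top_of_isUnit_mem _ hx ((IsUnit.mk0 _ hne).map _))

/-- A prime minimal in its fibre lies below the section. -/
theorem minimal_le_section (h : IrredFibres A B) (u : B →ₐ[A] A) (q : Ideal B) [q.IsPrime]
    (hq : ∀ q'' : Ideal B, q''.IsPrime → q''.comap (algebraMap A B) = q.comap (algebraMap A B) → q'' ≤ q → q ≤ q'')
    {b : B} (hb : b ∈ q) : u b ∈ q.comap (algebraMap A B) := by
  let p := q.comap (algebraMap A B)
  let K := p.ResidueField
  haveI := h K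
  let ι := Algebra.TensorProduct.includeRight (R := A) (A := K) (B := B)
  haveI : q.LiesOver p := ⟨rfl⟩
  letI : Algebra K q.ResidueField := (Ideal.ResidueField.mapₐ p q (Algebra.ofId A B) rfl).toRingHom.toAlgebra
  haveI : IsScalarTower A K q.ResidueField := IsScalarTower.of_algebraMap_eq fun a =>
    ((Ideal.ResidueField.mapₐ p q (Algebra.ofId A B) rfl).commutes a).symm
  let ψ : K ⊗[A] B →ₐ[A] q.ResidueField := Algebra.TensorProduct.lift
    (IsScalarTower.toAlgHom A K q.ResidueField) (IsScalarTower.toAlgHom A B q.ResidueField) fun _ _ => Commute.all _ _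
  let χ : K ⊗[A] B →ₐ[A] K := Algebra.TensorProduct.lift
    (AlgHom.id A K) ((Algebra.ofId A K).comp u) fun _ _ => Commute.all _ _
  let q₀ := (nilradical (K ⊗[A] B)).comap ι
  have hq₀q : q₀ ≤ q := fun x hx => by
    have h1 : ψ (ι x) = 0 := IsReduced.eq_zero _ ((mem_nilradical.1 hx).map ψ)
    rw [Algebra.TensorProduct.includeRight_apply, Algebra.TensorProduct.lift_tmul, map_one, one_mul] at h1
    exact Ideal.algebraMap_residueField_eq_zero.1 h1
  have hp : q₀.comap (algebraMap A B) = q.comap (algebraMap A B) := by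
    refine le_antisymm (Ideal.comap_mono hq₀q) fun x hx => ?_
    show ι (algebraMap A B x) ∈ nilradical (K ⊗[A] B)
    rw [AlgHom.commutes, IsScalarTower.algebraMap_apply A K (K ⊗[A] B),
      Ideal.algebraMap_residueField_eq_zero.2 hx, map_zero]
    exact zero_mem _
  have hbP : ι b ∈ nilradical (K ⊗[A] B) := hq q₀ (Ideal.IsPrime.comap _) hp hq₀q hb
  have h2 : χ (ι b) = 0 := IsReduced.eq_zero _ ((mem_nilradical.1 hbP).map χ)
  rw [Algebra.TensorProduct.includeRight_apply, Algebra.TensorProduct.lift_tmul, map_one, one_mul] at h2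
  exact Ideal.algebraMap_residueField_eq_zero.1 h2

end fibres

theorem mem_ker_pow_iff {R R' S : Type*} [CommRing R] [CommRing R'] [CommRing S] (Φ : R ≃+* R') (f : R →+* S)
    (f' : R' →+* S) (hf : ∀ x, f' (Φ x) = f x) (n : ℕ) (x : R) :
    x ∈ RingHom.ker f ^ n ↔ Φ x ∈ RingHom.ker f' ^ n := by
  have h1 : RingHom.ker f = (RingHom.ker f').comap (Φ : R →+* R') := by
    ext y
    simp [RingHom.mem_ker, hf]
  have h2 : (RingHom.ker f ^ n).map (Φ : R →+* R') = RingHom.ker f' ^ n := by
    rw [Ideal.map_pow, h1, Ideal.map_comap_of_surjective (Φ : R →+* R') Φ.surjective]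
  rw [← h2]
  exact ⟨fun h => Ideal.mem_map_of_mem _ h, fun h => by
    obtain ⟨y, hy, e⟩ := (Ideal.mem_map_iff_of_surjective _ Φ.surjective).1 h
    rwa [← Φ.injective e]⟩

/-- A smooth algebra with a section and an element comes from a Noetherian ring. -/
theorem exists_model {A B : Type u} [CommRing A] [CommRing B] [Algebra A B] [Algebra.Smooth A B] (u : B →ₐ[A] A)
    (a : B) :
    ∃ (A₀ : Type u) (_ : CommRing A₀) (_ : IsNoetherianRing A₀) (_ : Algebra A₀ A)
      (B₀ : Type u) (_ : CommRing B₀) (_ : Algebra A₀ B₀) (_ : Algebra.Smooth A₀ B₀) (u₀ : B₀ →ₐ[A₀] A₀)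
      (Φ : A ⊗[A₀] B₀ ≃ₐ[A] B) (a₀ : B₀), Function.Injective (algebraMap A₀ A) ∧
      Φ (1 ⊗ₜ a₀) = a ∧ ∀ x, u (Φ x) = secBC u₀ A x := by
  classical
  obtain ⟨A₀, B₀, _, _, hA₀, _, ⟨e⟩⟩ := Algebra.Smooth.exists_subalgebra_fg ℤ A B
  obtain ⟨g, hg⟩ := (inferInstance : Algebra.FiniteType A₀ B₀).out
  obtain ⟨S, hS⟩ := TensorProduct.exists_finset (e a)
  obtain ⟨s₀, hs₀⟩ := hA₀
  let A₁ := Algebra.adjoin ℤ ((↑(s₀ ∪ g.image (fun b => u (e.symm (1 ⊗ₜ b))) ∪ S.image Prod.fst) : Set A))
  have hle : A₀ ≤ A₁ := hs₀ ▸ Algebra.adjoin_mono fun x hx => by simp [Finset.mem_coe.1 hx]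
  letI : Algebra A₀ A₁ := (Subalgebra.inclusion hle).toRingHom.toAlgebra
  haveI : IsScalarTower A₀ A₁ A := IsScalarTower.of_algebraMap_eq fun _ => rfl
  haveI : Algebra.FiniteType ℤ A₁ := (Subalgebra.fg_iff_finiteType _).1 (Subalgebra.fg_adjoin_finset _)
  let B₁ := A₁ ⊗[A₀] B₀
  let Φ : A ⊗[A₁] B₁ ≃ₐ[A] B := (Algebra.TensorProduct.cancelBaseChange A₀ A₁ A A B₀).trans e.symm
  have hΦ : ∀ (x : A) (r : A₁) (b : B₀), Φ (x ⊗ₜ (r ⊗ₜ b)) = e.symm ((r • x) ⊗ₜ b) := fun x r b => by
    show e.symm (Algebra.TensorProduct.cancelBaseChange A₀ A₁ A A B₀ _) = _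
    rw [Algebra.TensorProduct.cancelBaseChange_tmul]
  let ρ : B₁ →ₐ[A₁] A := ((u.comp Φ.toAlgHom).restrictScalars A₁).comp Algebra.TensorProduct.includeRight
  have hρ : ∀ x, ρ x ∈ Set.range (algebraMap A₁ A) := by
    have hgen : ∀ b : B₀, ρ ((1 : A₁) ⊗ₜ b) ∈ (algebraMap A₁ A).range := by
      intro b
      have hb : b ∈ Algebra.adjoin A₀ (g : Set B₀) := hg ▸ Algebra.mem_top
      induction hb using Algebra.adjoin_induction with
      | mem x hx =>
        refine ⟨⟨u (e.symm (1 ⊗ₜ x)), Algebra.subset_adjoin (by simp only [Finset.coe_union, Finset.coe_image, Set.mem_union, Set.mem_image]; exact Or.inl (Or.inr ⟨x, hx, rfl⟩))⟩, ?_⟩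
        show _ = u (Φ (1 ⊗ₜ ((1 : A₁) ⊗ₜ x)))
        rw [hΦ, one_smul]
        rfl
      | algebraMap r =>
        refine ⟨algebraMap A₀ A₁ r, ?_⟩
        rw [show ((1 : A₁) ⊗ₜ[A₀] algebraMap A₀ B₀ r) = algebraMap A₀ B₁ r from
          (Algebra.TensorProduct.includeRight (R := A₀) (A := A₁) (B := B₀)).commutes r,
          IsScalarTower.algebraMap_apply A₀ A₁ B₁, AlgHom.commutes]
      | add x y _ _ hx hy => rw [tmul_add, map_add]; exact add_mem hx hy
      | mul x y _ _ hx hy =>
        rw [show ((1 : A₁) ⊗ₜ[A₀] (x * y)) = ((1 : A₁) ⊗ₜ x) * ((1 : A₁) ⊗ₜ y) by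
          rw [Algebra.TensorProduct.tmul_mul_tmul, one_mul], map_mul]
        exact mul_mem hx hy
    intro x
    show ρ x ∈ (algebraMap A₁ A).range
    induction x using TensorProduct.induction_on with
    | zero => rw [map_zero]; exact zero_mem _
    | add x y hx hy => rw [map_add]; exact add_mem hx hy
    | tmul r b =>
      rw [show r ⊗ₜ[A₀] b = r • ((1 : A₁) ⊗ₜ b) by rw [smul_tmul', smul_eq_mul, mul_one], map_smul, Algebra.smul_def]
      exact mul_mem ⟨r, rfl⟩ (hgen b)
  choose v hv using hρ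
  have hinj : Function.Injective (algebraMap A₁ A) := Subtype.val_injective
  let u₁ : B₁ →ₐ[A₁] A₁ :=
    { toFun := v
      map_one' := hinj (by rw [hv, map_one, map_one])
      map_mul' := fun x y => hinj (by rw [map_mul, hv, hv, hv, map_mul])
      map_zero' := hinj (by rw [hv, map_zero, map_zero])
      map_add' := fun x y => hinj (by rw [map_add, hv, hv, hv, map_add])
      commutes' := fun r => hinj ((hv _).trans (ρ.commutes r)) }
  have hmem : ∀ i : S, i.1.1 ∈ A₁ := fun i => Algebra.subset_adjoin (by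
    simp only [Finset.coe_union, Finset.coe_image, Set.mem_union, Set.mem_image]
    exact Or.inr ⟨i.1, i.2, rfl⟩)
  refine ⟨A₁, inferInstance, Algebra.FiniteType.isNoetherianRing ℤ A₁, inferInstance, B₁, inferInstance, inferInstance,
    inferInstance, u₁, Φ, ∑ i : S, (⟨i.1.1, hmem i⟩ : A₁) ⊗ₜ[A₀] i.1.2, hinj, ?_, fun x => ?_⟩
  · rw [tmul_sum, map_sum]
    simp only [hΦ]
    rw [← map_sum, e.symm_apply_eq, hS, ← Finset.sum_coe_sort S]
    refine Finset.sum_congr rfl fun i _ => ?_
    rw [Algebra.smul_def, mul_one]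
    rfl
  · induction x using TensorProduct.induction_on with
    | zero => simp
    | add x y hx hy => simp only [map_add, hx, hy]
    | tmul r b =>
      rw [secBC_tmul, show r ⊗ₜ[A₁] b = r • ((1 : A) ⊗ₜ[A₁] b) by rw [smul_tmul', smul_eq_mul, mul_one],
        map_smul, map_smul, smul_eq_mul]
      exact congrArg (r * ·) (hv b).symm

section section_case

variable {A B : Type u} [CommRing A] [CommRing B] [Algebra A B] [Algebra.Smooth A B]

/-- An element vanishing along every infinitesimal neighbourhood of the section is zero. -/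
theorem eq_zero_of_mem_pow (h : IrredFibres A B) (u : B →ₐ[A] A) (a : B) (ha : ∀ n, a ∈ RingHom.ker u ^ n) :
    a = 0 := by
  obtain ⟨A₀, _, _, _, B₀, _, _, _, u₀, Φ, a₀, hinj, hΦa, hΦu⟩ := exists_model u a
  haveI : IsNoetherianRing B₀ := Algebra.FiniteType.isNoetherianRing A₀ B₀
  have h1 : ∀ n, a₀ ∈ RingHom.ker u₀ ^ n := fun n => by
    have h2 : Van u₀ A n a₀ :=
      (mem_ker_pow_iff Φ.toRingEquiv (secBC u₀ A).toRingHom u.toRingHom hΦu n _).2
        (by show Φ (1 ⊗ₜ a₀) ∈ _; rw [hΦa]; exact ha n)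
    rw [van_iff_tmul] at h2
    haveI := (projective_quot u₀ n).1
    refine Ideal.Quotient.eq_zero_iff_mem.1 ?_
    have hi : Function.Injective ((Algebra.linearMap A₀ A).rTensor (B₀ ⧸ RingHom.ker u₀ ^ n)) :=
      Module.Flat.rTensor_preserves_injective_linearMap _ hinj
    have h3 : (1 : A₀) ⊗ₜ[A₀] Ideal.Quotient.mk (RingHom.ker u₀ ^ n) a₀ = 0 := hi (by
      rw [map_zero, LinearMap.rTensor_tmul, Algebra.linearMap_apply, map_one]
      exact h2)
    have h4 := congrArg (TensorProduct.lid A₀ (B₀ ⧸ RingHom.ker u₀ ^ n)) h3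
    rwa [TensorProduct.lid_tmul, one_smul, map_zero] at h4
  obtain ⟨⟨r, hr⟩, hra⟩ := (Ideal.mem_iInf_smul_pow_eq_bot_iff (RingHom.ker u₀) a₀).1
    ((Submodule.mem_iInf _).2 fun n => by rw [smul_eq_mul, Ideal.mul_top]; exact h1 n)
  have hga : Φ (1 ⊗ₜ (1 - r)) * a = 0 := by
    have h0 : (1 - r) * a₀ = 0 := by
      rw [sub_mul, one_mul]
      exact sub_eq_zero.2 hra.symm
    rw [← hΦa, ← map_mul, Algebra.TensorProduct.tmul_mul_tmul, mul_one, h0, tmul_zero, map_zero]
  have hug : u (Φ (1 ⊗ₜ (1 - r))) = 1 := by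
    rw [hΦu, secBC_tmul, map_sub, map_one, RingHom.mem_ker.1 hr, sub_zero, map_one, one_mul]
  refine FlatFunLimLib.eq_zero_of_minimal (A := A) a fun q _ hq => ⟨_, fun hgq => ?_, hga⟩
  have := minimal_le_section h u q hq hgq
  rw [hug] at this
  exact (Ideal.IsPrime.comap (algebraMap A B) : (q.comap (algebraMap A B)).IsPrime).ne_top
    ((Ideal.eq_top_iff_one _).2 this)

/-- The content of an element of an algebra with a section. -/
theorem exists_ideal_section (h : IrredFibres A B) (u : B →ₐ[A] A) (a : B) :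
    ∃ J : Ideal A, J.FG ∧ ∀ (C : Type u) [CommRing C] [Algebra A C],
      J ≤ RingHom.ker (algebraMap A C) ↔ (1 : C) ⊗ₜ[A] a = 0 := by
  refine ⟨⨆ n, vanIdeal u n {a}, ?_, fun C _ _ => ?_⟩
  · obtain ⟨A₀, _, _, _, B₀, _, _, _, u₀, Φ, a₀, -, hΦa, hΦu⟩ := exists_model u a
    suffices hn : ∀ n, vanIdeal u n {a} = (vanIdeal u₀ n {a₀}).map (algebraMap A₀ A) by
      simp only [hn, ← Ideal.map_iSup]
      exact Ideal.FG.map (IsNoetherian.noetherian _) _
    intro n
    have key : ∀ (C : Type u) [CommRing C] [Algebra A C],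
        vanIdeal u n {a} ≤ RingHom.ker (algebraMap A C) ↔
          (vanIdeal u₀ n {a₀}).map (algebraMap A₀ A) ≤ RingHom.ker (algebraMap A C) := by
      intro C _ _
      letI : Algebra A₀ C := ((algebraMap A C).comp (algebraMap A₀ A)).toAlgebra
      haveI : IsScalarTower A₀ A C := IsScalarTower.of_algebraMap_eq fun _ => rfl
      rw [Ideal.map_le_iff_le_comap, RingHom.comap_ker,
        ← IsScalarTower.algebraMap_eq, vanIdeal_le_iff, vanIdeal_le_iff]
      simp only [Set.mem_singleton_iff, forall_eq]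
      let Ψ : C ⊗[A₀] B₀ ≃ₐ[C] C ⊗[A] B :=
        (Algebra.TensorProduct.cancelBaseChange A₀ A C C B₀).symm.trans
          (Algebra.TensorProduct.congr AlgEquiv.refl Φ)
      have hΨ : ∀ (c : C) (b : B₀), Ψ (c ⊗ₜ b) = c ⊗ₜ Φ (1 ⊗ₜ b) := fun c b => by
        show Algebra.TensorProduct.congr AlgEquiv.refl Φ
          ((Algebra.TensorProduct.cancelBaseChange A₀ A C C B₀).symm (c ⊗ₜ b)) = _
        rw [show (Algebra.TensorProduct.cancelBaseChange A₀ A C C B₀).symm (c ⊗ₜ b) = c ⊗ₜ ((1 : A) ⊗ₜ b) by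
          rw [AlgEquiv.symm_apply_eq, Algebra.TensorProduct.cancelBaseChange_tmul, one_smul]]
        rfl
      have hsec : ∀ x, secBC u C (Ψ x) = secBC u₀ C x := fun x => by
        induction x using TensorProduct.induction_on with
        | zero => simp
        | add x y hx hy => simp only [map_add, hx, hy]
        | tmul c b =>
          rw [hΨ, secBC_tmul, secBC_tmul, hΦu, secBC_tmul, one_mul,
            ← IsScalarTower.algebraMap_apply A₀ A C]
      have e1 : Ψ (1 ⊗ₜ a₀) = 1 ⊗ₜ a := by rw [hΨ, hΦa]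
      exact (e1 ▸ mem_ker_pow_iff Ψ.toRingEquiv (secBC u₀ C).toRingHom (secBC u C).toRingHom hsec n (1 ⊗ₜ a₀)).symm
    refine le_antisymm ?_ ?_
    · have := (key (A ⧸ (vanIdeal u₀ n {a₀}).map (algebraMap A₀ A))).2 (Ideal.mk_ker (I := _)).ge
      rwa [Ideal.Quotient.algebraMap_eq, Ideal.mk_ker] at this
    · have := (key (A ⧸ vanIdeal u n {a})).1 (Ideal.mk_ker (I := _)).ge
      rwa [Ideal.Quotient.algebraMap_eq, Ideal.mk_ker] at this
  · simp only [iSup_le_iff, vanIdeal_le_iff, Set.mem_singleton_iff, forall_eq]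
    refine ⟨fun hv => ?_, fun h0 n => ?_⟩
    · exact eq_zero_of_mem_pow (irredFibres_baseChange h C) (secBC u C) _ hv
    · unfold Van
      rw [h0]
      exact zero_mem _

end section_case

section general

variable {A B : Type u} [CommRing A] [CommRing B] [Algebra A B] [Algebra.Smooth A B]

theorem faithfullyFlat (h : IrredFibres A B) : Module.FaithfullyFlat A B :=
  Module.FaithfullyFlat.of_comap_surjective (comap_surjective h)

/-- Vanishing descends along injective maps of the coefficients. -/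
theorem tmul_eq_zero_iff_of_injective {C D : Type u} [CommRing C] [CommRing D] [Algebra A C] [Algebra A D]
    (φ : C →ₐ[A] D) (hφ : Function.Injective φ) (a : B) :
    (1 : C) ⊗ₜ[A] a = 0 ↔ (1 : D) ⊗ₜ[A] a = 0 := by
  have h1 : φ.toLinearMap.rTensor B ((1 : C) ⊗ₜ a) = (1 : D) ⊗ₜ a := by
    rw [LinearMap.rTensor_tmul, AlgHom.toLinearMap_apply, map_one]
  rw [← h1, map_eq_zero_iff _ (Module.Flat.rTensor_preserves_injective_linearMap φ.toLinearMap hφ)]

/-- The content of an element of a smooth algebra with geometrically irreducible fibres. -/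
theorem exists_ideal_elem (h : IrredFibres A B) (a : B) :
    ∃ J : Ideal A, J.FG ∧ ∀ (C : Type u) [CommRing C] [Algebra A C],
      J ≤ RingHom.ker (algebraMap A C) ↔ (1 : C) ⊗ₜ[A] a = 0 := by
  haveI := faithfullyFlat h
  obtain ⟨J', hfg, hJ'⟩ := exists_ideal_section (irredFibres_baseChange h B)
    (Algebra.TensorProduct.productLeftAlgHom (AlgHom.id B B) (AlgHom.id A B)) ((1 : B) ⊗ₜ[A] a)
  have hJ : ∀ (D : Type u) [CommRing D] [Algebra A D] [Algebra B D] [IsScalarTower A B D],
      J' ≤ RingHom.ker (algebraMap B D) ↔ (1 : D) ⊗ₜ[A] a = 0 := by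
    intro D _ _ _ _
    rw [hJ' D, ← (Algebra.TensorProduct.cancelBaseChange A B B D B).injective.eq_iff, map_zero,
      Algebra.TensorProduct.cancelBaseChange_tmul, one_smul]
  let J := J'.comap (algebraMap A B)
  -- the ideal is extended
  have hext : J' ≤ J.map (algebraMap A B) := fun x hx => by
    have h0 : (1 : B ⧸ J') ⊗ₜ[A] a = 0 := (hJ (B ⧸ J')).1 (Ideal.mk_ker (I := J')).ge
    have h1 : (1 : B ⊗[A] (B ⧸ J')) ⊗ₜ[A] a = 0 := by
      let ι : (B ⧸ J') →ₐ[A] B ⊗[A] (B ⧸ J') := Algebra.TensorProduct.includeRight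
      have := congrArg (ι.toLinearMap.rTensor B) h0
      rwa [LinearMap.rTensor_tmul, AlgHom.toLinearMap_apply, map_one, map_zero] at this
    have h2 : x ⊗ₜ[A] (1 : B ⧸ J') = 0 := (hJ (B ⊗[A] (B ⧸ J'))).2 h1 hx
    let m : (A ⧸ J) →ₐ[A] B ⧸ J' := Ideal.quotientMapₐ J' (Algebra.ofId A B) le_rfl
    have hm : Function.Injective m := Ideal.quotientMap_injective
    have h3 : x ⊗ₜ[A] (1 : A ⧸ J) = 0 := Module.Flat.lTensor_preserves_injective_linearMap (M := B)
      m.toLinearMap hm (by rw [map_zero, LinearMap.lTensor_tmul, AlgHom.toLinearMap_apply, map_one]; exact h2)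
    rw [← Algebra.TensorProduct.quotIdealMapEquivTensorQuot_mk B J x,
      map_eq_zero_iff _ (AlgEquiv.injective _)] at h3
    exact Ideal.Quotient.eq_zero_iff_mem.1 h3
  refine ⟨J, ?_, fun C _ _ => ?_⟩
  · have heq : J' = J.map (algebraMap A B) := le_antisymm hext Ideal.map_comap_le
    classical
    rw [heq] at hfg
    obtain ⟨s, hs, hspan⟩ := (Submodule.fg_span_iff_fg_span_finset_subset _).1
      (show (Submodule.span B ((algebraMap A B) '' (J : Set A))).FG from hfg)
    obtain ⟨t, htJ, hts⟩ := Finset.subset_set_image_iff.1 hs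
    subst hts
    refine ⟨t, le_antisymm (Ideal.span_le.2 htJ) ?_⟩
    have h2 : (Ideal.span (t : Set A)).map (algebraMap A B) = J.map (algebraMap A B) := by
      rw [Ideal.map_span]
      simpa [Ideal.map, Ideal.span] using hspan.symm
    calc J ≤ (J.map (algebraMap A B)).comap (algebraMap A B) := Ideal.le_comap_map
      _ = _ := by rw [← h2, Ideal.comap_map_eq_self_of_faithfullyFlat]
  · let D := B ⊗[A] C
    let φ : C →ₐ[A] D := Algebra.TensorProduct.includeRight
    have hφ : Function.Injective φ := Module.FaithfullyFlat.tensorProduct_mk_injective (A := A) (B := B) C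
    rw [tmul_eq_zero_iff_of_injective φ hφ a, ← hJ D]
    refine ⟨fun hk => hext.trans (Ideal.map_le_iff_le_comap.2 fun x hx => ?_), fun hk x hx => ?_⟩
    · rw [Ideal.mem_comap, RingHom.mem_ker, ← IsScalarTower.algebraMap_apply A B D, ← φ.commutes,
        RingHom.mem_ker.1 (hk hx), map_zero]
    · refine hφ ?_
      rw [φ.commutes, IsScalarTower.algebraMap_apply A B D, map_zero]
      exact hk hx

/-- The content of an ideal. -/
theorem exists_ideal (h : IrredFibres A B) (I : Ideal B) :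
    ∃ J : Ideal A, (I.FG → J.FG) ∧ ∀ (C : Type u) [CommRing C] [Algebra A C],
      J ≤ RingHom.ker (algebraMap A C) ↔ ∀ b ∈ I, (1 : C) ⊗ₜ[A] b = 0 := by
  choose Ja hfg hJa using exists_ideal_elem (A := A) h
  refine ⟨⨆ b ∈ I, Ja b, fun ⟨s, hs⟩ => ?_, fun C _ _ => by simp only [iSup_le_iff, hJa]⟩
  suffices heq : (⨆ b ∈ I, Ja b) = ⨆ b : s, Ja b by
    rw [heq]
    exact Submodule.fg_iSup _ fun b => hfg _
  refine le_antisymm (iSup₂_le fun b hb => ?_)
    (iSup_le fun b => le_iSup₂_of_le b.1 (hs ▸ Ideal.subset_span b.2) le_rfl)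
  let K := ⨆ b : s, Ja b
  have hK : ∀ b : s, (1 : A ⧸ K) ⊗ₜ[A] (b : B) = 0 := fun b =>
    (hJa b.1 (A ⧸ K)).1 ((le_iSup (fun b : s => Ja b) b).trans (Ideal.mk_ker (I := K)).ge)
  have hle : I ≤ RingHom.ker (Algebra.TensorProduct.includeRight (R := A) (A := A ⧸ K) (B := B)) := by
    rw [← hs, Ideal.span_le]
    exact fun b hb => hK ⟨b, hb⟩
  have := (hJa b (A ⧸ K)).2 (hle hb)
  rwa [Ideal.Quotient.algebraMap_eq, Ideal.mk_ker] at this

end general

end ContentLib
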