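import Groth.Agent.ContentLib.Alg

/-!
# Freeness at the generic points of the fibres, read through one chart
-/

set_option autoImplicit false
set_option backward.isDefEq.respectTransparency false
set_option linter.style.haveILetI false

universe u

open CategoryTheory CategoryTheory.Limits AlgebraicGeometry TopologicalSpace Opposite TensorProduct

noncomputable section

namespace ContentLib

open RankLocusLib FlatFunLimLib

variable {X S : Scheme.{u}} (f : X ⟶ S)

theorem smooth_appLE [Smooth f] {W : S.Opens} (hW : IsAffineOpen W) {V : X.Opens} (hV : IsAffineOpen V)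
    (e : V ≤ f ⁻¹ᵁ W) :
    letI := (f.appLE W V e).hom.toAlgebra
    Algebra.Smooth Γ(S, W) Γ(X, V) :=
  letI := (f.appLE W V e).hom.toAlgebra
  RingHom.smooth_algebraMap.1 (HasRingHomProperty.appLE (P := @Smooth) f inferInstance ⟨W, hW⟩ ⟨V, hV⟩ e)

theorem irredFibres_appLE [GeometricallyIrreducible f] {W : S.Opens} (hW : IsAffineOpen W) {V : X.Opens}
    (hV : IsAffineOpen V) (e : V ≤ f ⁻¹ᵁ W) (hsurj : ∀ s ∈ W, ∃ x ∈ V, f x = s) :
    letI := (f.appLE W V e).hom.toAlgebra
    IrredFibres Γ(S, W) Γ(X, V) := by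
  letI := (f.appLE W V e).hom.toAlgebra
  let g := X.homOfLE e ≫ (f ∣_ W)
  have hg0 : g ≫ W.ι = V.ι ≫ f := by
    show (X.homOfLE e ≫ (f ∣_ W)) ≫ W.ι = _
    rw [Category.assoc, morphismRestrict_ι, ← Category.assoc, Scheme.homOfLE_ι]
  haveI : Surjective g := ⟨fun s => by
    obtain ⟨x, hx, hxs⟩ := hsurj s.1 s.2
    refine ⟨⟨x, hx⟩, W.ι.isOpenEmbedding.injective ?_⟩
    rw [← Scheme.Hom.comp_apply, hg0]
    exact hxs⟩
  haveI hg : GeometricallyIrreducible g := inferInstanceAs (GeometricallyIrreducible (X.homOfLE e ≫ (f ∣_ W)))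
  have hsp : hV.isoSpec.hom ≫ Spec.map (f.appLE W V e) = g ≫ hW.isoSpec.hom := by
    rw [← cancel_mono hW.fromSpec, Category.assoc, hW.SpecMap_appLE_fromSpec f hV e, Category.assoc,
      hW.isoSpec_hom_fromSpec, ← Category.assoc, hV.isoSpec_hom_fromSpec]
    exact hg0.symm
  haveI : GeometricallyIrreducible (Spec.map (CommRingCat.ofHom (algebraMap Γ(S, W) Γ(X, V)))) := by
    have h1 : GeometricallyIrreducible (g ≫ hW.isoSpec.hom) :=
      (MorphismProperty.cancel_right_of_respectsIso @GeometricallyIrreducible g hW.isoSpec.hom).2 hg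
    rw [← hsp] at h1
    exact (MorphismProperty.cancel_left_of_respectsIso @GeometricallyIrreducible hV.isoSpec.hom
      (Spec.map (f.appLE W V e))).1 h1
  intro K _ _
  let φ := Spec.map (CommRingCat.ofHom (algebraMap Γ(S, W) Γ(X, V)))
  let b := Spec.map (CommRingCat.ofHom (algebraMap Γ(S, W) K))
  haveI : IrreducibleSpace ↥(pullback φ b) :=
    GeometricallyIrreducible.geometrically_irreducibleSpace b _ _ (IsPullback.of_hasPullback φ b)
  let i := pullbackSymmetry φ b ≪≫ pullbackSpecIso Γ(S, W) K Γ(X, V)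
  exact PrimeSpectrum.irreducibleSpace_iff_isPrime_nilradical.1 (i.hom.homeomorph.irreducibleSpace_iff.1 inferInstance)

variable [Smooth f] [GeometricallyIrreducible f] (F : X.Modules) [Coh.IsQCoh F] {p : ℕ} {W : S.Opens}
  (hW : IsAffineOpen W) {V : X.Opens} (hV : IsAffineOpen V) (hVW : V ≤ f ⁻¹ᵁ W)
  {m : Fin p → Γ(F, V)} (hm : Submodule.span Γ(X, V) (Set.range m) = ⊤)

include hV hm in
/-- Freeness at the generic points is the vanishing of the relations on the whole of the chart. -/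
theorem freeAtGenericPts_iff_vanish (hsurj : ∀ s ∈ W, ∃ x ∈ V, f x = s) (T : Over S)
    (hT : ∀ t : T.left, T.hom t ∈ W) :
    FlatFun.FreeAtGenericPts (PicF.XTproj f T) (FGA.ET f F T) p ↔
      ∀ a ∈ relIdeal m, (pullback.fst f T.hom).app V a = 0 := by
  let q := PicF.XTproj f T
  let π := pullback.fst f T.hom
  haveI : Smooth q := inferInstanceAs (Smooth (pullback.snd f T.hom))
  have happ : ∀ {U : (PicF.XT f T).Opens} (hle : U ≤ π ⁻¹ᵁ V) (a : Γ(X, V)),
      π.appLE V U hle a = (PicF.XT f T).presheaf.map (homOfLE hle).op (π.app V a) := fun hle a => rfl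
  constructor
  · intro h a ha
    refine eq_zero_of_germ_generic q (fun t _ _ => exists_generic f T t) _ fun η hη hgen => ?_
    obtain ⟨x, hx, hxgen, hfree⟩ := h (q η)
    obtain ⟨O, hO, hfree'⟩ := (FlatFunLimLib.isFreeOfRankNear_iff _ p η).1
      (isFreeOfRankNear_of_specializes (hgen x hx) hfree)
    obtain ⟨U, hU, hηU, hUO⟩ := exists_isAffineOpen_mem_and_subset (x := η) (U := O ⊓ π ⁻¹ᵁ V) ⟨hO, hη⟩
    have hker := (freeAlong_iff_relIdeal_le F hV π hU (le_trans hUO inf_le_right) hm).1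
      ((freeAlong_pullback_iff π U.ι).1 (freeAlong_of_le (f := 𝟙 _)
        (by rw [Category.comp_id]; exact hfree') (le_trans hUO inf_le_left) |> fun h => by
          rwa [Category.comp_id] at h)) ha
    rw [RingHom.mem_ker] at hker
    have h1 := TopCat.Presheaf.germ_res_apply (PicF.XT f T).presheaf (homOfLE (le_trans hUO inf_le_right)) η hηU
      (π.app V a)
    rw [← happ (le_trans hUO inf_le_right), show π.appLE V U _ a = 0 from hker, map_zero] at h1
    exact h1.symm
  · intro h t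
    obtain ⟨η, hη, hηt⟩ := exists_generic f T t
    obtain ⟨x, hx, hxs⟩ := hsurj (T.hom t) (hT t)
    obtain ⟨z, hz, hzt⟩ := exists_point_of_isPullback (IsPullback.of_hasPullback f T.hom) x t hxs
    have hηV : η ∈ π ⁻¹ᵁ V := (hη z (hzt.trans hηt.symm)).mem_open (π ⁻¹ᵁ V).isOpen (by
      show π z ∈ V
      rw [hz]; exact hx)
    obtain ⟨U, hU, hηU, hUV⟩ := exists_isAffineOpen_mem_and_subset (x := η) (U := π ⁻¹ᵁ V) hηV
    refine ⟨η, hηt, hη, (FlatFunLimLib.isFreeOfRankNear_iff _ p η).2 ⟨U, hηU, (freeAlong_pullback_iff π U.ι).2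
      ((freeAlong_iff_relIdeal_le F hV π hU hUV hm).2 fun a ha => ?_)⟩⟩
    rw [RingHom.mem_ker]
    show π.appLE V U hUV a = 0
    rw [happ hUV, h a ha, map_zero]

include hW hV in
/-- The vanishing on a chart over an affine open of the base is vanishing in the tensor product. -/
theorem app_eq_zero_iff (T : Over S) {U : T.left.Opens} (hU : IsAffineOpen U) (hUW : U ≤ T.hom ⁻¹ᵁ W)
    (O : (PicF.XT f T).Opens) (hO : O = pullback.fst f T.hom ⁻¹ᵁ V ⊓ pullback.snd f T.hom ⁻¹ᵁ U)
    (a : Γ(X, V)) :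
    letI := (f.appLE W V hVW).hom.toAlgebra
    letI := (T.hom.appLE W U hUW).hom.toAlgebra
    (pullback.fst f T.hom).appLE V O (by rw [hO]; exact inf_le_left) a = 0 ↔
      (1 : Γ(T.left, U)) ⊗ₜ[Γ(S, W)] a = 0 := by
  letI := (f.appLE W V hVW).hom.toAlgebra
  letI := (T.hom.appLE W U hUW).hom.toAlgebra
  let H := IsPullback.of_hasPullback f T.hom
  haveI := isIso_pushoutSection_of_isAffineOpen H hUW hVW hO hW hU hV
  have hpo := (isIso_pushoutSection_iff H hUW hVW hO).1 inferInstance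
  have hpo' : IsPushout (CommRingCat.ofHom (algebraMap Γ(S, W) Γ(X, V)))
      (CommRingCat.ofHom (algebraMap Γ(S, W) Γ(T.left, U)))
      ((pullback.fst f T.hom).appLE V O (by rw [hO]; exact inf_le_left))
      ((pullback.snd f T.hom).appLE U O (by rw [hO]; exact inf_le_right)) := hpo
  let hT := CommRingCat.isPushout_tensorProduct Γ(S, W) Γ(X, V) Γ(T.left, U)
  let e := hT.isoIsPushout _ _ hpo'
  have he : e.hom (a ⊗ₜ[Γ(S, W)] (1 : Γ(T.left, U))) =
      (pullback.fst f T.hom).appLE V O (by rw [hO]; exact inf_le_left) a := by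
    have h1 : _ ≫ e.hom = (pullback.fst f T.hom).appLE V O (by rw [hO]; exact inf_le_left) :=
      hT.inl_isoIsPushout_hom _ _ hpo'
    rw [← h1]
    rfl
  rw [← he, map_eq_zero_iff _ (ConcreteCategory.bijective_of_isIso e.hom).1,
    ← map_eq_zero_iff (Algebra.TensorProduct.comm Γ(S, W) Γ(X, V) Γ(T.left, U)) (AlgEquiv.injective _)]
  rfl

/-- Vanishing on a chart is local on the base. -/
theorem app_eq_zero_of_cover (T : Over S) (hT : ∀ t : T.left, T.hom t ∈ W) (a : Γ(X, V))
    (h : ∀ (U : T.left.Opens), IsAffineOpen U → U ≤ T.hom ⁻¹ᵁ W →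
      (pullback.fst f T.hom).appLE V (pullback.fst f T.hom ⁻¹ᵁ V ⊓ pullback.snd f T.hom ⁻¹ᵁ U) inf_le_left a = 0) :
    (pullback.fst f T.hom).app V a = 0 := by
  refine TopCat.Presheaf.section_ext (PicF.XT f T).sheaf _ _ 0 fun z hz => Eq.trans ?_ (map_zero _).symm
  obtain ⟨U, hU, hzU, -⟩ := exists_isAffineOpen_mem_and_subset (x := pullback.snd f T.hom z) (U := ⊤) trivial
  have h1 := h U hU fun t _ => hT t
  have h2 := TopCat.Presheaf.germ_res_apply (PicF.XT f T).presheaf
    (homOfLE (inf_le_left : pullback.fst f T.hom ⁻¹ᵁ V ⊓ pullback.snd f T.hom ⁻¹ᵁ U ≤ _)) z ⟨hz, hzU⟩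
    ((pullback.fst f T.hom).app V a)
  exact h2.symm.trans ((congrArg _ h1).trans (map_zero _))

include hW hV hVW hm in
/-- The condition over an affine open of the base is that of a closed subscheme. -/
theorem exists_closedImmersion (hsurj : ∀ s ∈ W, ∃ x ∈ V, f x = s) :
    ∃ J : Ideal Γ(S, W), ((relIdeal (A := Γ(X, V)) m).FG → J.FG) ∧ ∀ (T : Over S) (hT : ∀ t : T.left, T.hom t ∈ W),
      FlatFun.FreeAtGenericPts (PicF.XTproj f T) (FGA.ET f F T) p ↔
        J ≤ RingHom.ker (T.hom.appLE W ⊤ fun t _ => hT t).hom := by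
  letI := (f.appLE W V hVW).hom.toAlgebra
  haveI := smooth_appLE f hW hV hVW
  obtain ⟨J, hfg, hJ⟩ := exists_ideal (irredFibres_appLE f hW hV hVW hsurj) (relIdeal m)
  refine ⟨J, hfg, fun T hT => ?_⟩
  rw [freeAtGenericPts_iff_vanish f F hV hm hsurj T hT]
  have hres : ∀ (U : T.left.Opens) (j : Γ(S, W)), (T.hom.appLE W U fun t _ => hT t).hom j =
      T.left.presheaf.map (homOfLE le_top).op ((T.hom.appLE W ⊤ fun t _ => hT t).hom j) := fun U j => by
    rw [← CommRingCat.comp_apply, Scheme.Hom.appLE_map]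
  constructor
  · intro h j hj
    refine RingHom.mem_ker.2 (TopCat.Presheaf.section_ext T.left.sheaf ⊤ _ 0 fun t _ => ?_)
    obtain ⟨U, hU, htU, -⟩ := exists_isAffineOpen_mem_and_subset (x := t) (U := ⊤) trivial
    letI := (T.hom.appLE W U fun t _ => hT t).hom.toAlgebra
    have h1 : (T.hom.appLE W U fun t _ => hT t).hom j = 0 := (hJ Γ(T.left, U)).2 (fun a ha =>
      (app_eq_zero_iff f hW hV hVW T hU (fun t _ => hT t) _ rfl a).1 (by
        show (PicF.XT f T).presheaf.map (homOfLE _).op ((pullback.fst f T.hom).app V a) = 0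
        rw [h a ha, map_zero])) hj
    rw [hres] at h1
    exact (TopCat.Presheaf.germ_res_apply T.left.presheaf (homOfLE le_top) t htU _).symm.trans
      ((congrArg _ h1).trans ((map_zero _).trans (map_zero _).symm))
  · intro h a ha
    refine app_eq_zero_of_cover f T hT a fun U hU hUW => ?_
    letI := (T.hom.appLE W U hUW).hom.toAlgebra
    refine (app_eq_zero_iff f hW hV hVW T hU hUW _ rfl a).2 ((hJ Γ(T.left, U)).1 (fun j hj => ?_) a ha)
    show (T.hom.appLE W U _).hom j = 0
    rw [hres, RingHom.mem_ker.1 (h hj), map_zero]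

end ContentLib
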