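import Groth.Agent.ContentLib.Geom
import Groth.Agent.RankLocusLib.Local
import Groth.Agent.FittLib.Generated
import Groth.Agent.FittLib.Props

/-!
# Freeness at the generic points of the fibres is representable by an immersion
-/

set_option autoImplicit false
set_option backward.isDefEq.respectTransparency false
set_option linter.style.haveILetI false

universe u

open CategoryTheory CategoryTheory.Limits AlgebraicGeometry TopologicalSpace Opposite

noncomputable section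

namespace ContentLib

open RankLocusLib

theorem gen_basicOpen {X : Scheme.{u}} (F : X.Modules) [Coh.IsQCoh F] {r : ℕ} {W : X.Opens} (hW : IsAffineOpen W)
    (g : Γ(X, W)) (h : Gen F r W) : Gen F r (X.basicOpen g) := by
  obtain ⟨m, hm⟩ := h
  let res := F.presheaf.map (homOfLE (X.basicOpen_le g)).op
  refine ⟨fun i => res (m i), eq_top_iff.2 fun s _ => ?_⟩
  have hloc := QCohLib.localizingAt_of_isQCoh hW F g
  obtain ⟨k, x, hx⟩ := hloc.exists_extend s
  have hu := QCohLib.isUnit_res g (le_refl (X.basicOpen g))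
  have hmem : ∀ y ∈ Submodule.span Γ(X, W) (Set.range m),
      res y ∈ Submodule.span Γ(X, X.basicOpen g) (Set.range fun i => res (m i)) := by
    intro y hy
    induction hy using Submodule.span_induction with
    | mem y hy => obtain ⟨i, rfl⟩ := hy; exact Submodule.subset_span ⟨i, rfl⟩
    | zero => rw [map_zero]; exact zero_mem _
    | add y z _ _ hy hz => rw [map_add]; exact add_mem hy hz
    | smul a y _ hy => rw [Scheme.Modules.map_smul]; exact Submodule.smul_mem _ _ hy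
  have h3 := hmem x (hm ▸ Submodule.mem_top)
  rw [hx] at h3
  exact (Submodule.smul_mem_iff_of_isUnit _ (hu.pow k)).1 h3

theorem isCompact_inter_genLocus {X : Scheme.{u}} (F : X.Modules) [Coh.IsQCoh F] (hF : CohB1.IsFP F) (r : ℕ)
    {U : X.Opens} (hU : IsAffineOpen U) : IsCompact ((U : Set X) ∩ (genLocus F r : Set X)) := by
  have hft := FlatFunLimLib.isFT_of_isFP' hF
  haveI := FittLib.finitePresentation_affine F hF hU
  obtain ⟨s, hs⟩ := FittLib.ideal_fg (R := Γ(X, U)) (M := Γ(F, U)) r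
  suffices heq : ((U : Set X) ∩ (genLocus F r : Set X)) = ⋃ g ∈ s, (X.basicOpen g : Set X) by
    rw [heq]
    exact s.finite_toSet.isCompact_biUnion fun g _ => (hU.basicOpen g).isCompact
  have hgen : ∀ x : X, x ∈ genLocus F r ↔ x ∉ (Fitt.sheafIdeal F r).support := by
    refine fun x => ⟨fun hx hmem => ?_, fun hx => ?_⟩
    · obtain ⟨W, hxW, hW, σ, hσ⟩ := (mem_genLocus F).1 hx
      rw [FittLib.mem_support_iff F hft r hW hxW, FittLib.ideal_top_of_gen σ hσ le_rfl, top_le_iff] at hmem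
      exact (hW.primeIdealOf ⟨x, hxW⟩).2.ne_top hmem
    · obtain ⟨W, hW, hxW, -⟩ := exists_isAffineOpen_mem_and_subset (x := x) (U := ⊤) trivial
      obtain ⟨D, hD, hxD, hgen⟩ := FittLib.exists_gen_basicOpen F hft hW hxW hx
      exact (mem_genLocus F).2 ⟨D, hxD, hD, hgen⟩
  have hbas : ∀ (g : Γ(X, U)) (x : X) (hx : x ∈ U), x ∈ X.basicOpen g ↔ g ∉ (hU.primeIdealOf ⟨x, hx⟩).asIdeal := by
    intro g x hx
    letI : Algebra Γ(X, U) (X.presheaf.stalk x) := (X.presheaf.germ U x hx).hom.toAlgebra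
    have hloc := hU.isLocalization_stalk ⟨x, hx⟩
    exact (X.mem_basicOpen g x hx).trans (IsLocalization.AtPrime.isUnit_to_map_iff (X.presheaf.stalk x) _ g)
  ext x
  simp only [Set.mem_inter_iff, SetLike.mem_coe, Set.mem_iUnion₂, hgen]
  refine ⟨fun ⟨hx, hx'⟩ => ?_, fun ⟨g, hg, hxg⟩ => ⟨X.basicOpen_le g hxg, fun hmem => ?_⟩⟩
  · rw [FittLib.mem_support_iff F hft r hU hx, ← hs, Ideal.span_le, Set.not_subset] at hx'
    obtain ⟨g, hg, hgx⟩ := hx'
    exact ⟨g, hg, (hbas g x hx).2 hgx⟩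
  · have hx : x ∈ U := X.basicOpen_le g hxg
    rw [FittLib.mem_support_iff F hft r hU hx, ← hs, Ideal.span_le] at hmem
    exact (hbas g x hx).1 hxg (hmem hg)

variable {X S : Scheme.{u}} (f : X ⟶ S)

/-- The closed subscheme of an ideal of an affine open. -/
theorem exists_closed_of_ideal {W : S.Opens} (hW : IsAffineOpen W) (J : Ideal Γ(S, W)) :
    ∃ (Z : Scheme.{u}) (i : Z ⟶ (W : Scheme.{u})), IsClosedImmersion i ∧ (J.FG → LocallyOfFinitePresentation i) ∧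
      ∀ (T : Scheme.{u}) (g : T ⟶ (W : Scheme.{u})),
        J ≤ RingHom.ker ((g ≫ W.ι).appLE W ⊤ fun t _ => (g t).2).hom ↔ ∃ l : T ⟶ Z, l ≫ i = g := by
  let q : Γ(S, W) ⟶ CommRingCat.of (Γ(S, W) ⧸ J) := CommRingCat.ofHom (Ideal.Quotient.mk J)
  haveI : IsClosedImmersion (Spec.map q) :=
    IsClosedImmersion.spec_of_surjective q Ideal.Quotient.mk_surjective
  refine ⟨Spec (CommRingCat.of (Γ(S, W) ⧸ J)), Spec.map q ≫ hW.isoSpec.inv, inferInstance, fun hfg => ?_, fun T g => ?_⟩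
  · haveI : LocallyOfFinitePresentation (Spec.map q) := by
      rw [HasRingHomProperty.Spec_iff (P := @LocallyOfFinitePresentation)]
      show (Ideal.Quotient.mk J).FinitePresentation
      exact RingHom.FinitePresentation.of_surjective _ Ideal.Quotient.mk_surjective (by rwa [Ideal.mk_ker])
    infer_instance
  have htop : (⊤ : T.Opens) ≤ (g ≫ W.ι) ⁻¹ᵁ W := fun t _ => (g t).2
  have hg : g ≫ hW.isoSpec.hom = T.toSpecΓ ≫ Spec.map ((g ≫ W.ι).appLE W ⊤ htop) :=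
    comp_toSpecΓ_eq g htop
  constructor
  · intro h
    let ψ : CommRingCat.of (Γ(S, W) ⧸ J) ⟶ Γ(T, ⊤) :=
      CommRingCat.ofHom (Ideal.Quotient.lift J ((g ≫ W.ι).appLE W ⊤ htop).hom fun a ha => h ha)
    refine ⟨T.toSpecΓ ≫ Spec.map ψ, ?_⟩
    have hqψ : q ≫ ψ = (g ≫ W.ι).appLE W ⊤ htop := by
      ext a
      rfl
    rw [Category.assoc, ← Category.assoc (Spec.map ψ), ← Spec.map_comp, hqψ, ← Category.assoc,
      Iso.comp_inv_eq, hg]
  · rintro ⟨l, hl⟩ a ha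
    have hl' : T.toSpecΓ ≫ Spec.map ((g ≫ W.ι).appLE W ⊤ htop) = l ≫ Spec.map q := by
      rw [← hg, ← hl, Category.assoc, Category.assoc, Iso.inv_hom_id, Category.comp_id]
    have h1 := congrArg (fun φ => (Scheme.ΓSpecIso Γ(S, W)).inv ≫ Scheme.Hom.appTop φ) hl'
    rw [appTop_toSpecΓ_SpecMap, Scheme.Hom.comp_appTop, ← Category.assoc,
      ← Scheme.ΓSpecIso_inv_naturality] at h1
    rw [RingHom.mem_ker, h1]
    change (Scheme.Hom.appTop l).hom ((Scheme.ΓSpecIso _).inv.hom (q.hom a)) = 0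
    rw [show q.hom a = 0 from Ideal.Quotient.eq_zero_iff_mem.2 ha, map_zero, map_zero]

variable [Smooth f] [GeometricallyIrreducible f] (F : X.Modules) [Coh.IsQCoh F] (p : ℕ)

/-- The open part of the base over which the rank can be at most `p` at the generic points. -/
def baseLocus : S.Opens :=
  ⟨f '' (genLocus F p : Set X), f.isOpenMap _ (genLocus F p).isOpen⟩

theorem mem_baseLocus (hF : CohB1.IsFT F) (T : Over S)
    (h : FlatFun.FreeAtGenericPts (PicF.XTproj f T) (FGA.ET f F T) p) (t : T.left) : T.hom t ∈ baseLocus f F p := by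
  obtain ⟨x, hx, -, hfree⟩ := h t
  obtain ⟨O, hO, hfree'⟩ := (FlatFunLimLib.isFreeOfRankNear_iff _ p x).1 hfree
  obtain ⟨W, hW, hxW, -⟩ := exists_isAffineOpen_mem_and_subset (x := pullback.fst f T.hom x) (U := ⊤) trivial
  obtain ⟨U, hU, hxU, hUO⟩ := exists_isAffineOpen_mem_and_subset (x := x)
    (U := O ⊓ pullback.fst f T.hom ⁻¹ᵁ W) ⟨hO, hxW⟩
  have h1 : FreeAlong p F (U.ι ≫ pullback.fst f T.hom) :=
    freeAlong_of_le ((freeAlong_pullback_iff (pullback.fst f T.hom) O.ι).1 hfree') (le_trans hUO inf_le_left)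
  refine ⟨pullback.fst f T.hom x, (mem_genLocus F).2
    (exists_gen_of_freeAlong F hW (pullback.fst f T.hom) hU (le_trans hUO inf_le_right) hF h1 hxU), ?_⟩
  rw [← hx]
  show (pullback.fst f T.hom ≫ f) x = (pullback.snd f T.hom ≫ T.hom) x
  rw [pullback.condition]

theorem exists_chart (s : S) (hs : s ∈ baseLocus f F p) :
    ∃ (W : S.Opens) (V : X.Opens), s ∈ W ∧ IsAffineOpen W ∧ IsAffineOpen V ∧ V ≤ f ⁻¹ᵁ W ∧
      (∀ y ∈ W, ∃ x ∈ V, f x = y) ∧ Gen F p V := by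
  obtain ⟨x, hx, rfl⟩ := hs
  obtain ⟨V₁, hxV₁, hV₁, hgen⟩ := (mem_genLocus F).1 hx
  obtain ⟨W₀, hW₀, hsW₀, -⟩ := exists_isAffineOpen_mem_and_subset (x := f x) (U := ⊤) trivial
  obtain ⟨a, ha, hxa⟩ := hV₁.exists_basicOpen_le (V := f ⁻¹ᵁ W₀) ⟨x, hsW₀⟩ hxV₁
  obtain ⟨g, hg, hsg⟩ := hW₀.exists_basicOpen_le
    (V := ⟨f '' (X.basicOpen a : Set X), f.isOpenMap _ (X.basicOpen a).isOpen⟩) ⟨f x, ⟨x, hxa, rfl⟩⟩ hsW₀
  let a' := f.appLE W₀ (X.basicOpen a) ha g
  refine ⟨S.basicOpen g, X.basicOpen a', hsg, hW₀.basicOpen g, (hV₁.basicOpen a).basicOpen a', ?_, fun y hy => ?_,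
    gen_basicOpen F (hV₁.basicOpen a) a' (gen_basicOpen F hV₁ a hgen)⟩
  · rw [Scheme.basicOpen_appLE]
    exact inf_le_right
  · obtain ⟨z, hz, rfl⟩ := hg hy
    refine ⟨z, ?_, rfl⟩
    rw [Scheme.basicOpen_appLE]
    exact ⟨hz, hy⟩

/-- The condition on schemes over the base locus. -/
def Pr : ∀ T : Scheme.{u}, (T ⟶ (baseLocus f F p : Scheme.{u})) → Prop := fun _ g =>
  FlatFun.FreeAtGenericPts (PicF.XTproj f (Over.mk (g ≫ (baseLocus f F p).ι)))
    (FGA.ET f F (Over.mk (g ≫ (baseLocus f F p).ι))) p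

theorem exists_local (y : (baseLocus f F p : Scheme.{u})) :
    ∃ (V : (baseLocus f F p : Scheme.{u}).Opens) (Z : Scheme.{u}) (i : Z ⟶ (V : Scheme.{u})), y ∈ V ∧
      IsClosedImmersion i ∧ (CohB1.IsFP F → LocallyOfFinitePresentation i) ∧
      ∀ (T : Scheme.{u}) (g : T ⟶ (V : Scheme.{u})), Pr f F p T (g ≫ V.ι) ↔ ∃ l : T ⟶ Z, l ≫ i = g := by
  let U := baseLocus f F p
  obtain ⟨W, V, hyW, hW, hV, hVW, hsurj, m, hm⟩ := exists_chart f F p y.1 y.2
  obtain ⟨J, hfg, hJ⟩ := exists_closedImmersion f F hW hV hVW hm hsurj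
  obtain ⟨Z, i, hi, hlfp, hu⟩ := exists_closed_of_ideal hW J
  refine ⟨U.ι ⁻¹ᵁ W, pullback (U.ι ∣_ W) i, pullback.fst _ _, hyW,
    MorphismProperty.pullback_fst _ _ hi, fun hFP => ?_, fun T g => ?_⟩
  · haveI := FittLib.finitePresentation_affine F hFP hV
    exact MorphismProperty.pullback_fst _ _ (hlfp (hfg (FlatFunLimLib.fg_relIdeal hm)))
  have e : (g ≫ (U.ι ⁻¹ᵁ W).ι) ≫ U.ι = (g ≫ U.ι ∣_ W) ≫ W.ι := by
    simp only [Category.assoc, morphismRestrict_ι]
  show FlatFun.FreeAtGenericPts (PicF.XTproj f (Over.mk ((g ≫ (U.ι ⁻¹ᵁ W).ι) ≫ U.ι))) _ p ↔ _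
  have hT : ∀ t : T, ((g ≫ U.ι ∣_ W) ≫ W.ι) t ∈ W := fun t => ((g ≫ U.ι ∣_ W) t).2
  have h1 := (hJ (Over.mk ((g ≫ U.ι ∣_ W) ≫ W.ι)) hT).trans (hu T (g ≫ U.ι ∣_ W))
  rw [e]
  refine h1.trans ⟨?_, ?_⟩
  · rintro ⟨l, hl⟩
    exact ⟨pullback.lift g l hl.symm, pullback.lift_fst _ _ _⟩
  · rintro ⟨l, rfl⟩
    exact ⟨l ≫ pullback.snd _ _, by rw [Category.assoc, ← pullback.condition, Category.assoc]⟩

theorem quasiCompact_baseLocus (hF : CohB1.IsFP F) : QuasiCompact (baseLocus f F p).ι := by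
  refine ⟨fun K hK hKc => ?_⟩
  suffices h : IsCompact (K ∩ (baseLocus f F p : Set S)) by
    refine (baseLocus f F p).ι.isOpenEmbedding.isInducing.isCompact_iff.2 ?_
    rwa [Set.image_preimage_eq_inter_range, Scheme.Opens.range_ι]
  have hcov : ∀ k : K, ∃ V : X.Opens, IsAffineOpen V ∧ k.1 ∈ f '' (V : Set X) ∧ V ≤ f ⁻¹ᵁ ⟨K, hK⟩ := fun k => by
    obtain ⟨x, hx⟩ := f.surjective k.1
    obtain ⟨V, hV, hxV, hVK⟩ := exists_isAffineOpen_mem_and_subset (x := x) (U := f ⁻¹ᵁ ⟨K, hK⟩)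
      (show f x ∈ K by rw [hx]; exact k.2)
    exact ⟨V, hV, ⟨x, hxV, hx⟩, hVK⟩
  choose V hV hkV hVK using hcov
  obtain ⟨t, ht⟩ := hKc.elim_finite_subcover (fun k : K => f '' (V k : Set X))
    (fun k => f.isOpenMap _ (V k).isOpen) fun k hk => Set.mem_iUnion.2 ⟨⟨k, hk⟩, hkV _⟩
  have hqs : IsCompact (⋃ k ∈ t, ((V k : Set X) ∩ (genLocus F p : Set X))) :=
    t.finite_toSet.isCompact_biUnion fun k _ => isCompact_inter_genLocus F hF p (hV k)
  have heq : K ∩ (baseLocus f F p : Set S) = f '' (⋃ k ∈ t, ((V k : Set X) ∩ (genLocus F p : Set X))) := by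
    refine Set.Subset.antisymm ?_ ?_
    · rintro s ⟨hsK, x, hx, rfl⟩
      obtain ⟨k, hkt, z, hz, hzs⟩ := Set.mem_iUnion₂.1 (ht hsK)
      have hirr : IsPreirreducible (f ⁻¹' {f x}) :=
        (f.isIrreducible_preimage f.isOpenMap isIrreducible_singleton).isPreirreducible
      obtain ⟨w, hw, hwg, hwV⟩ := hirr _ _ (genLocus F p).isOpen (V k).isOpen
        ⟨x, rfl, hx⟩ ⟨z, hzs, hz⟩
      exact ⟨w, Set.mem_iUnion₂.2 ⟨k, hkt, hwV, hwg⟩, hw⟩
    · rintro s ⟨x, hx, rfl⟩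
      obtain ⟨k, -, hxV, hxg⟩ := Set.mem_iUnion₂.1 hx
      exact ⟨hVK k hxV, x, hxg, rfl⟩
  rw [heq]
  exact hqs.image f.continuous

theorem representable (hF : CohB1.IsFT F) :
    ∃ Z : Over S, IsImmersion Z.hom ∧
      Nonempty ((FlatFun.genPSp S (fun T => FlatFun.FreeAtGenericPts (PicF.XTproj f T) (FGA.ET f F T) p)).RepresentableBy Z) ∧
      (CohB1.IsFP F → LocallyOfFinitePresentation Z.hom ∧ QuasiCompact Z.hom ∧ QuasiSeparated Z.hom) := by
  let U := baseLocus f F p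
  let Q := fun T : Over S => FlatFun.FreeAtGenericPts (PicF.XTproj f T) (FGA.ET f F T) p
  have hstab : ∀ ⦃T T₀ : Over S⦄ (_ : T ⟶ T₀), Q T₀ → Q T := fun _ _ g h =>
    FlatFunLimLib.freeAtGenericPts_stable f F p g h
  choose Vl Zl il hy hil hlfp hul using exists_local f F p
  have hres : ∀ {T : Scheme.{u}} (g : T ⟶ (U : Scheme.{u})) (V : T.Opens), Pr f F p T g → Pr f F p _ (V.ι ≫ g) :=
    fun g V h => hstab (Over.homMk (U := Over.mk ((V.ι ≫ g) ≫ U.ι)) (V := Over.mk (g ≫ U.ι)) V.ι (by simp [U])) h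
  obtain ⟨Z, i, hi, hu⟩ := exists_immersion_of_local (Pr f F p) hres
    (fun {T} g h => FlatFunLimLib.freeAtGenericPts_of_cover f F p hF _ fun t => by
      obtain ⟨V, hV, hP⟩ := h t
      exact ⟨Over.mk ((V.ι ≫ g) ≫ U.ι), Over.homMk (U := Over.mk ((V.ι ≫ g) ≫ U.ι)) (V := Over.mk (g ≫ U.ι)) V.ι
          (by simp [U]), (show Flat V.ι from inferInstance),
        ⟨⟨t, hV⟩, rfl⟩, hP⟩)
    (fun y => ⟨Vl y, hy y, Zl y, il y, inferInstance, hul y⟩)
  haveI := hi
  haveI : IsClosedImmersion i := property_of_local @IsClosedImmersion i hu fun y =>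
    ⟨Vl y, Zl y, il y, hy y, inferInstance, hil y, hul y⟩
  let Zo : Over S := Over.mk (i ≫ U.ι)
  have hQ : ∀ T : Over S, Q T ↔ Nonempty (T ⟶ Zo) := by
    refine fun T => ⟨fun h => ?_, fun ⟨φ⟩ => hstab φ ((hu _ i).1 ⟨𝟙 _, Category.id_comp _⟩)⟩
    have hr : Set.range T.hom ⊆ Set.range U.ι := by
      rintro _ ⟨t, rfl⟩
      rw [Scheme.Opens.range_ι]
      exact mem_baseLocus f F p hF T h t
    obtain ⟨g, hg⟩ := (hu T.left (IsOpenImmersion.lift U.ι T.hom hr)).2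
      (hstab (Over.homMk (U := Over.mk (IsOpenImmersion.lift U.ι T.hom hr ≫ U.ι)) (V := T) (𝟙 _)
        (by simp [IsOpenImmersion.lift_fac])) h)
    exact ⟨Over.homMk g (by rw [← IsOpenImmersion.lift_fac U.ι T.hom hr, ← hg]; exact (Category.assoc _ _ _).symm)⟩
  refine ⟨Zo, inferInstanceAs (IsImmersion (i ≫ U.ι)), ?_, fun hFP => ⟨?_, ?_, ?_⟩⟩
  · haveI : Mono Zo.hom := inferInstanceAs (Mono (i ≫ U.ι))
    have hss : ∀ T : Over S, Subsingleton (T ⟶ Zo) := fun T => ⟨fun a b => by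
      ext
      rw [← cancel_mono Zo.hom, Over.w a, Over.w b]⟩
    exact ⟨{ homEquiv := fun {T} =>
              { toFun := fun φ => (FlatFun.genPSp_nonempty_of Q ((hQ T).2 ⟨φ⟩)).some
                invFun := fun x => ((hQ T).1 ((FlatFun.genPSp_nonempty_iff_of_stable Q hstab T).1 ⟨x⟩)).some
                left_inv := fun _ => @Subsingleton.elim _ (hss T) _ _
                right_inv := fun _ => @Subsingleton.elim _ (FlatFun.genPSp_subsingleton S Q _) _ _ }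
             homEquiv_comp := fun _ _ => @Subsingleton.elim _ (FlatFun.genPSp_subsingleton S Q _) _ _ }⟩
  · haveI : LocallyOfFinitePresentation i := property_of_local @LocallyOfFinitePresentation i hu fun y =>
      ⟨Vl y, Zl y, il y, hy y, inferInstance, hlfp y hFP, hul y⟩
    exact inferInstanceAs (LocallyOfFinitePresentation (i ≫ U.ι))
  · haveI := quasiCompact_baseLocus f F p hFP
    exact inferInstanceAs (QuasiCompact (i ≫ U.ι))
  · exact inferInstanceAs (QuasiSeparated (i ≫ U.ι))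

end ContentLib
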